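import Groth.Agent.ModCohLib.FlatEquiv
import Mathlib.CategoryTheory.Adjunction.FullyFaithful

/-! The comparison morphism of two topologies on a class of modules with vanishing cohomology. -/

set_option linter.unusedSectionVars false
set_option linter.style.haveILetI false
set_option backward.isDefEq.respectTransparency false

universe u

open CategoryTheory Limits Pretriangulated DerivedCategory DerivedCategory.TStructure
open Opposite (op unop)
open Groth.Agent.ModCohLib
open ZeroObject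
attribute [local instance] HasDerivedCategory.standard

namespace Groth.Agent.EpsSerreLib

noncomputable section

variable {C : Type u} [SmallCategory C] {J J' : GrothendieckTopology C} (h : J' ≤ J)
  (O : Sheaf J CommRingCat.{u})

local notation "ε'" => SiteCmp.eps h O

instance push_faithful : (SiteCmp.eps h O).push.Faithful where
  map_injective {F G} a b hab := by
    apply SheafOfModules.hom_ext
    apply (PresheafOfModules.toPresheaf _).map_injective
    apply NatTrans.ext
    funext U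
    have h1 := congrArg (fun (q : (ε').push.obj F ⟶ (ε').push.obj G) =>
      ((PresheafOfModules.toPresheaf _).map q.val).app U) hab
    exact h1

instance push_full : (SiteCmp.eps h O).push.Full where
  map_surjective {F G} ψ := ⟨⟨PresheafOfModules.homMk ((PresheafOfModules.toPresheaf _).map ψ.val)
      (fun U r m => (ψ.val.app U).hom.map_smul r m)⟩, by
    apply SheafOfModules.hom_ext
    apply (PresheafOfModules.toPresheaf _).map_injective
    rfl⟩

instance isIso_counit : IsIso (SiteCmp.eps h O).adj.counit :=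
  (SiteCmp.eps h O).adj.counit_isIso_of_R_fully_faithful

/-- Pulling back a pushforward. -/
def pullPushIso (F : ModSite.Mod O) : (ε').pull.obj ((ε').push.obj F) ≅ F :=
  (asIso (ε').adj.counit).app F

variable [PreservesFiniteLimits (SiteCmp.eps h O).pull] [SiteCmp.HasRpushD (SiteCmp.eps h O)]
  (adj : SiteCmp.pullD (SiteCmp.eps h O) ⊣ SiteCmp.RpushD (SiteCmp.eps h O))
  (A : ObjectProperty (ModSite.Mod O)) [WSerre.IsWeakSerre A] (B : Set C)
  (h3 : ∀ U : C, ∃ (ι : Type u) (Y : ι → C) (g : ∀ i, Y i ⟶ U),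
    Sieve.ofArrows Y g ∈ J' U ∧ ∀ i, Y i ∈ B)
  (h4 : ∀ U ∈ B, ∀ F : ModSite.Mod O, A F → ∀ p : ℕ, 0 < p → Subsingleton (ModSite.HU O F p U))

local notation "RD" => SiteCmp.RpushD (SiteCmp.eps h O)

include h3 h4 in
theorem isZero_rpush (F : ModSite.Mod O) (hF : A F) (p : ℕ) (hp : 0 < p) :
    IsZero (((SiteCmp.eps h O).Rpush p).obj F) := by
  let Z : DerivedCategory (ModSite.Mod O) := SiteCmp.inD O (0 : ModSite.Mod O)
  have hZ : IsZero Z := (singleFunctor _ 0).map_isZero (isZero_zero _)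
  obtain ⟨e⟩ := nonempty_homology_rpush_single_iso (ε') RD ((SiteCmp.pushKh (SiteCmp.eps h O)).totalRightDerivedUnit DerivedCategory.Qh
      (HomotopyCategory.quasiIso (ModSite.Mod O) (ComplexShape.up ℤ))) F p
  haveI := isIso_homology_rpush_of_locally (ε') RD ((SiteCmp.pushKh (SiteCmp.eps h O)).totalRightDerivedUnit DerivedCategory.Qh
      (HomotopyCategory.quasiIso (ModSite.Mod O) (ComplexShape.up ℤ))) (0 : SiteCmp.inD O F ⟶ Z) (p : ℤ) fun U => by
    obtain ⟨ι, Y, g, hg, hY⟩ := h3 U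
    refine ⟨ι, Y, g, hg, fun i => ⟨Z, 0, 𝟙 Z, by simp, by infer_instance,
      cofinalCover_of_forall J' B h3 (fun W hW => ?_) (Y i)⟩⟩
    refine ⟨fun a b _ => ?_, fun b => ⟨0, hZ.eq_of_tgt _ _⟩⟩
    exact (dgen_hom_single_eq_zero F W (p : ℤ) 0 p (by omega) (h4 W hW F hF p hp) a).trans
      (dgen_hom_single_eq_zero F W (p : ℤ) 0 p (by omega) (h4 W hW F hF p hp) b).symm
  obtain ⟨_, _⟩ := DerLib.KInjDerived.exists_isTriangulated_map (DerLib.KInjDerived.enoughKInj _)
    (ε').push RD ((SiteCmp.pushKh (SiteCmp.eps h O)).totalRightDerivedUnit DerivedCategory.Qh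
      (HomotopyCategory.quasiIso (ModSite.Mod O) (ComplexShape.up ℤ)))
  refine IsZero.of_iso ?_ e.symm
  refine IsZero.of_iso ?_ (asIso ((homologyFunctor (ModSite.Mod (SiteCmp.epsRing h O)) (p : ℤ)).map
    ((RD).map (0 : SiteCmp.inD O F ⟶ Z))))
  exact (homologyFunctor _ _).map_isZero ((RD).map_isZero hZ)

include h3 h4 in
/-- The derived direct image of a member is a module in degree zero. -/
theorem nonempty_rpushD_iso (F : ModSite.Mod O) (hF : A F) :
    Nonempty ((RD).obj (SiteCmp.inD O F) ≅ SiteCmp.inD (SiteCmp.epsRing h O) ((ε').push.obj F)) := by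
  haveI hge : ((RD).obj (SiteCmp.inD O F)).IsGE 0 := by
    rw [isGE_iff]
    exact fun i hi => leftBound_rpush (ε') RD ((SiteCmp.pushKh (SiteCmp.eps h O)).totalRightDerivedUnit DerivedCategory.Qh
      (HomotopyCategory.quasiIso (ModSite.Mod O) (ComplexShape.up ℤ))) (SiteCmp.inD O F) 0 i inferInstance (by omega)
  haveI hle : ((RD).obj (SiteCmp.inD O F)).IsLE 0 := by
    rw [isLE_iff]
    intro i hi
    obtain ⟨p, rfl⟩ := Int.eq_ofNat_of_zero_le hi.le
    obtain ⟨e⟩ := nonempty_homology_rpush_single_iso (ε') RD ((SiteCmp.pushKh (SiteCmp.eps h O)).totalRightDerivedUnit DerivedCategory.Qh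
      (HomotopyCategory.quasiIso (ModSite.Mod O) (ComplexShape.up ℤ))) F p
    exact (isZero_rpush h O A B h3 h4 F hF p (by omega)).of_iso e
  obtain ⟨e⟩ := DerLib.Devissage.nonempty_iso_single ((RD).obj (SiteCmp.inD O F)) 0
  obtain ⟨k⟩ := nonempty_homology_rpush_single_iso (ε') RD ((SiteCmp.pushKh (SiteCmp.eps h O)).totalRightDerivedUnit DerivedCategory.Qh
      (HomotopyCategory.quasiIso (ModSite.Mod O) (ComplexShape.up ℤ))) F 0
  exact ⟨e ≪≫ (singleFunctor _ 0).mapIso (k ≪≫ (ε').push.rightDerivedZeroIsoSelf.app F)⟩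

include h3 h4 in
/-- The unit at a module in the image. -/
theorem isIso_unit (F' : ModSite.Mod (SiteCmp.epsRing h O))
    (hF' : (A.map (SiteCmp.eps h O).push) F') :
    IsIso (adj.unit.app (SiteCmp.inD (SiteCmp.epsRing h O) F')) := by
  obtain ⟨F, hF, ⟨e⟩⟩ := hF'
  obtain ⟨θ⟩ := nonempty_rpushD_iso h O A B h3 h4 F hF
  let G' := (ε').push.obj F
  let u := adj.unit.app (SiteCmp.inD (SiteCmp.epsRing h O) G')
  let Θ : (RD).obj ((SiteCmp.pullD (ε')).obj (SiteCmp.inD (SiteCmp.epsRing h O) G')) ≅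
      SiteCmp.inD (SiteCmp.epsRing h O) G' :=
    (RD).mapIso (pullInDIso (ε') G' ≪≫ (singleFunctor _ 0).mapIso (pullPushIso h O F)) ≪≫ θ
  obtain ⟨v, hv⟩ := (singleFunctor (ModSite.Mod (SiteCmp.epsRing h O)) 0).map_surjective (u ≫ Θ.hom)
  have hb : ∀ G, Function.Bijective fun g : G ⟶ G' => g ≫ v := fun G => by
    have hpull : Function.Bijective fun g : G ⟶ G' => (ε').pull.map g := by
      have h1 := (((ε').adj.homEquiv G F).symm).bijective
      have h2 := (Iso.homCongr (Iso.refl ((ε').pull.obj G)) (pullPushIso h O F).symm).bijective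
      convert h2.comp h1 using 1
      funext g
      simp [Adjunction.homEquiv_counit, pullPushIso]
    have hD : Function.Bijective fun g : G ⟶ G' =>
        (SiteCmp.pullD (ε')).map ((singleFunctor (ModSite.Mod (SiteCmp.epsRing h O)) 0).map g) := by
      have h1 := ((Functor.FullyFaithful.ofFullyFaithful
        (singleFunctor (ModSite.Mod O) 0)).map_bijective ((ε').pull.obj G) ((ε').pull.obj G')).comp hpull
      have h2 := (Iso.homCongr (pullInDIso (ε') G).symm (pullInDIso (ε') G').symm).bijective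
      convert h2.comp h1 using 1
      funext g
      have := ((ε').pull.mapDerivedCategorySingleFunctor 0).hom.naturality g
      simp only [Functor.comp_map] at this
      simp only [Function.comp_apply, Iso.homCongr_apply, Iso.symm_inv, Iso.symm_hom]
      rw [← Category.assoc, Iso.eq_comp_inv]
      exact this
    have h3' := ((Iso.homCongr (Iso.refl _) Θ).bijective.comp
      (adj.homEquiv (SiteCmp.inD (SiteCmp.epsRing h O) G) _).bijective).comp hD
    have h4' := ((Functor.FullyFaithful.ofFullyFaithful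
      (singleFunctor (ModSite.Mod (SiteCmp.epsRing h O)) 0)).map_bijective G G')
    refine (Function.Bijective.of_comp_iff' h4' _).1 ?_
    convert h3' using 1
    funext g
    simp only [Function.comp_apply, Functor.map_comp, hv, Iso.homCongr_apply, Iso.refl_inv,
      Category.id_comp]
    rw [Adjunction.homEquiv_unit, ← adj.unit_naturality_assoc]
    simp [Category.assoc]
  haveI : IsIso v := by
    obtain ⟨w, hw⟩ := (hb G').2 (𝟙 _)
    exact ⟨⟨w, (hb G').1 (by
      change (v ≫ w) ≫ v = 𝟙 G' ≫ v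
      rw [Category.assoc, show w ≫ v = 𝟙 _ from hw]
      simp), hw⟩⟩
  haveI : IsIso (u ≫ Θ.hom) := by
    rw [← hv]
    infer_instance
  haveI : IsIso u := IsIso.of_isIso_comp_right u Θ.hom
  exact (NatTrans.isIso_app_iff_of_iso adj.unit ((singleFunctor _ 0).mapIso e)).1 this

include adj h3 h4 in
theorem epi_push_map {F Q : ModSite.Mod O} (p : F ⟶ Q) [Epi p] (hF : A F) (hQ : A Q) :
    Epi ((SiteCmp.eps h O).push.map p) := by
  letI := adj.rightAdjointCommShift ℤ
  haveI : adj.CommShift ℤ := adj.commShift_of_leftAdjoint ℤ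
  haveI : (RD).IsTriangulated := adj.isTriangulated_rightAdjoint
  let S := ShortComplex.mk (kernel.ι p) p (kernel.condition p)
  have hS : S.ShortExact :=
    ShortComplex.ShortExact.mk' (ShortComplex.exact_of_f_is_kernel _ (kernelIsKernel p))
      inferInstance inferInstance
  have hK : A S.X₁ := A.prop_of_isLimit_kernelFork (limit.isLimit (parallelPair p 0)) hF hQ
  let H := homologyFunctor (ModSite.Mod (SiteCmp.epsRing h O)) 0
  have hT := (RD).map_distinguished _ hS.singleTriangle_distinguished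
  have hex := HomologySequence.exact₃ _ hT 0 1 (by omega)
  have hz : IsZero ((homologyFunctor (ModSite.Mod (SiteCmp.epsRing h O)) 1).obj
      ((RD).obj (SiteCmp.inD O S.X₁))) := by
    obtain ⟨e⟩ := nonempty_homology_rpush_single_iso (ε') RD ((SiteCmp.pushKh (SiteCmp.eps h O)).totalRightDerivedUnit DerivedCategory.Qh
      (HomotopyCategory.quasiIso (ModSite.Mod O) (ComplexShape.up ℤ))) S.X₁ 1
    exact (isZero_rpush h O A B h3 h4 S.X₁ hK 1 one_pos).of_iso e
  have hepi : Epi (H.map ((RD).map ((singleFunctor (ModSite.Mod O) 0).map p))) :=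
    hex.epi_f (hz.eq_of_tgt _ _)
  have hu : ∀ {T : ModSite.Mod O}, A T →
      IsIso (adj.unit.app (SiteCmp.inD (SiteCmp.epsRing h O) ((ε').push.obj T))) := fun hT =>
    isIso_unit h O adj A B h3 h4 _ (A.prop_map_obj _ hT)
  haveI := hu hF
  haveI := hu hQ
  let S₀ := singleFunctor (ModSite.Mod (SiteCmp.epsRing h O)) 0
  let α : ∀ T : ModSite.Mod O,
      (SiteCmp.pullD (ε')).obj (S₀.obj ((ε').push.obj T)) ≅ SiteCmp.inD O T := fun T =>
    pullInDIso (ε') _ ≪≫ (singleFunctor _ 0).mapIso (pullPushIso h O T)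
  have hα : (SiteCmp.pullD (ε')).map (S₀.map ((ε').push.map p)) ≫ (α Q).hom =
      (α F).hom ≫ (singleFunctor (ModSite.Mod O) 0).map p := by
    have := ((ε').pull.mapDerivedCategorySingleFunctor 0).hom.naturality ((ε').push.map p)
    simp only [Functor.comp_map] at this
    simp only [α, Iso.trans_hom, Functor.mapIso_hom, Category.assoc]
    erw [reassoc_of% this, ← Functor.map_comp, ← Functor.map_comp]
    congr 2
    exact (ε').adj.counit.naturality p
  have heq : S₀.map ((ε').push.map p) ≫ adj.unit.app _ ≫ (RD).map (α Q).hom =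
      (adj.unit.app _ ≫ (RD).map (α F).hom) ≫ (RD).map ((singleFunctor (ModSite.Mod O) 0).map p) := by
    rw [Category.assoc, ← Functor.map_comp, ← hα, Functor.map_comp]
    exact (adj.unit_naturality_assoc _ _).symm
  have hH := congrArg H.map heq
  simp only [Functor.map_comp] at hH
  haveI : Epi (H.map (S₀.map ((ε').push.map p)) ≫
      H.map (adj.unit.app _) ≫ H.map ((RD).map (α Q).hom)) := by
    rw [hH]
    infer_instance
  haveI : Epi (H.map (S₀.map ((ε').push.map p))) := by
    have := (inferInstance : Epi ((H.map (S₀.map ((ε').push.map p)) ≫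
      H.map (adj.unit.app _) ≫ H.map ((RD).map (α Q).hom)) ≫
        inv (H.map (adj.unit.app _) ≫ H.map ((RD).map (α Q).hom))))
    simpa using this
  exact (MorphismProperty.arrow_mk_iso_iff (MorphismProperty.epimorphisms _)
    (((Functor.mapArrowFunctor _ _).mapIso
      (singleFunctorCompHomologyFunctorIso (ModSite.Mod (SiteCmp.epsRing h O)) 0)).app
        (Arrow.mk ((ε').push.map p)))).1 ‹_›

include adj h3 h4 in
theorem isWeakSerre_map : WSerre.IsWeakSerre (A.map (SiteCmp.eps h O).push) := by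
  haveI : PreservesLimitsOfSize.{0, 0} (ε').push := (ε').adj.rightAdjoint_preservesLimits
  have hzero : (A.map (ε').push).ContainsZero :=
    ⟨⟨(ε').push.obj 0, (ε').push.map_isZero (isZero_zero _), A.prop_map_obj _ A.prop_zero⟩⟩
  have pre : ∀ {G₁ G₂} (f : G₁ ⟶ G₂), (A.map (ε').push) G₁ → (A.map (ε').push) G₂ →
      ∃ (F₁ F₂ : ModSite.Mod O) (a : F₁ ⟶ F₂), A F₁ ∧ A F₂ ∧
        Nonempty (Arrow.mk f ≅ Arrow.mk ((ε').push.map a)) := by
    rintro G₁ G₂ f ⟨F₁, hF₁, ⟨e₁⟩⟩ ⟨F₂, hF₂, ⟨e₂⟩⟩
    obtain ⟨a, ha⟩ := (ε').push.map_surjective (e₁.hom ≫ f ≫ e₂.inv)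
    exact ⟨F₁, F₂, a, hF₁, hF₂, ⟨Arrow.isoMk e₁.symm e₂.symm (by simp [ha])⟩⟩
  haveI hker : (A.map (ε').push).IsClosedUnderKernels := by
    refine ⟨?_⟩
    rintro X ⟨f, k, hk, ⟨h₁, h₂⟩⟩
    obtain ⟨F₁, F₂, a, hF₁, hF₂, ⟨e⟩⟩ := pre f h₁ h₂
    have eL : Arrow.leftFunc.obj (Arrow.mk f) ≅ _ := Arrow.leftFunc.mapIso e
    have eR : Arrow.rightFunc.obj (Arrow.mk f) ≅ _ := Arrow.rightFunc.mapIso e
    exact ObjectProperty.prop_of_iso _
      ((kernel.mapIso f _ (Arrow.leftFunc.mapIso e) (Arrow.rightFunc.mapIso e) e.hom.w.symm ≪≫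
        (PreservesKernel.iso (ε').push a).symm).symm ≪≫
          (kernelIsKernel f).conePointUniqueUpToIso hk)
      (A.prop_map_obj _ (A.prop_of_isLimit_kernelFork (limit.isLimit (parallelPair a 0)) hF₁ hF₂))
  haveI hcoker : (A.map (ε').push).IsClosedUnderCokernels := by
    refine ⟨?_⟩
    rintro X ⟨f, k, hk, ⟨h₁, h₂⟩⟩
    obtain ⟨F₁, F₂, a, hF₁, hF₂, ⟨e⟩⟩ := pre f h₁ h₂
    have hQ : A (cokernel a) := A.prop_of_isColimit_cokernelCofork (colimit.isColimit (parallelPair a 0)) hF₁ hF₂
    have hI : A (kernel (cokernel.π a)) :=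
      A.prop_of_isLimit_kernelFork (limit.isLimit (parallelPair (cokernel.π a) 0)) hF₂ hQ
    let φ : F₁ ⟶ kernel (cokernel.π a) := kernel.lift _ a (cokernel.condition a)
    haveI : Epi φ := by
      show Epi (Abelian.factorThruImage a)
      infer_instance
    haveI := epi_push_map h O adj A B h3 h4 φ hF₁ hI
    haveI := epi_push_map h O adj A B h3 h4 (cokernel.π a) hF₂ hQ
    let S := ShortComplex.mk ((ε').push.map (kernel.ι (cokernel.π a))) ((ε').push.map (cokernel.π a))
      (by rw [← Functor.map_comp, kernel.condition, Functor.map_zero])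
    have hS : S.Exact := ShortComplex.exact_of_f_is_kernel _
      (isLimitForkMapOfIsLimit' (ε').push (kernel.condition _) (kernelIsKernel _))
    let eQ : cokernel ((ε').push.map a) ≅ (ε').push.obj (cokernel a) :=
      cokernelIsoOfEq (show (ε').push.map a = (ε').push.map φ ≫ S.f by
        rw [← Functor.map_comp, kernel.lift_ι]) ≪≫ cokernelEpiComp _ _ ≪≫
        IsColimit.coconePointUniqueUpToIso (cokernelIsCokernel S.f) hS.gIsCokernel
    exact ObjectProperty.prop_of_iso _
      ((cokernel.mapIso f _ (Arrow.leftFunc.mapIso e) (Arrow.rightFunc.mapIso e) e.hom.w.symm ≪≫ eQ).symm ≪≫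
          (cokernelIsCokernel f).coconePointUniqueUpToIso hk)
      (A.prop_map_obj _ hQ)
  haveI hext : (A.map (ε').push).IsClosedUnderExtensions := by
    refine ⟨fun {S} hS h₁ h₃ => ?_⟩
    haveI : PreservesFiniteColimits (ε').pull := SiteCmp.preservesFiniteColimits_pull _
    have hT := hS.map_of_exact (ε').pull
    have hA : ∀ G, (A.map (ε').push) G → A ((ε').pull.obj G) ∧ IsIso ((ε').adj.unit.app G) := by
      rintro G ⟨F, hF, ⟨e⟩⟩
      refine ⟨A.prop_of_iso ((pullPushIso h O F).symm ≪≫ (ε').pull.mapIso e) hF, ?_⟩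
      exact (NatTrans.isIso_app_iff_of_iso (ε').adj.unit e).1 inferInstance
    obtain ⟨hA₁, hu₁⟩ := hA _ h₁
    obtain ⟨hA₃, hu₃⟩ := hA _ h₃
    have hA₂ : A ((ε').pull.obj S.X₂) := A.prop_X₂_of_shortExact hT hA₁ hA₃
    haveI := hT.mono_f
    haveI := hT.epi_g
    haveI := epi_push_map h O adj A B h3 h4 (S.map (ε').pull).g hA₂ hA₃
    haveI : Mono ((S.map (ε').pull).map (ε').push).f :=
      inferInstanceAs (Mono ((ε').push.map (S.map (ε').pull).f))
    haveI : Epi ((S.map (ε').pull).map (ε').push).g :=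
      inferInstanceAs (Epi ((ε').push.map (S.map (ε').pull).g))
    have hE : ((S.map (ε').pull).map (ε').push).ShortExact :=
      ShortComplex.ShortExact.mk' (ShortComplex.exact_of_f_is_kernel _
        (isLimitForkMapOfIsLimit' (ε').push _ hT.fIsKernel)) inferInstance inferInstance
    let φ : S ⟶ (S.map (ε').pull).map (ε').push :=
      { τ₁ := (ε').adj.unit.app _
        τ₂ := (ε').adj.unit.app _
        τ₃ := (ε').adj.unit.app _
        comm₁₂ := ((ε').adj.unit.naturality S.f).symm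
        comm₂₃ := ((ε').adj.unit.naturality S.g).symm }
    haveI : IsIso φ.τ₁ := hu₁
    haveI : IsIso φ.τ₃ := hu₃
    haveI : IsIso φ.τ₂ := ShortComplex.isIso₂_of_shortExact_of_isIso₁₃ φ hS hE
    exact ObjectProperty.prop_of_iso _ (asIso φ.τ₂).symm (A.prop_map_obj _ hA₂)
  exact {}

include h3 h4 in
theorem equivalence :
    WSerre.IsWeakSerre (A.map (SiteCmp.eps h O).push) ∧
    (∀ Y : DerivedCategory (ModSite.Mod (SiteCmp.epsRing h O)), WSerre.cohIn (A.map (SiteCmp.eps h O).push) Y →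
      WSerre.cohIn A ((SiteCmp.pullD (SiteCmp.eps h O)).obj Y) ∧ IsIso (adj.unit.app Y)) ∧
    (∀ X : DerivedCategory (ModSite.Mod O), WSerre.cohIn A X →
      WSerre.cohIn (A.map (SiteCmp.eps h O).push) ((SiteCmp.RpushD (SiteCmp.eps h O)).obj X) ∧
      IsIso (adj.counit.app X)) := by
  haveI := isWeakSerre_map h O adj A B h3 h4
  have hB : ∀ U : C, ∃ (ι : Type u) (Y : ι → C) (g : ∀ i, Y i ⟶ U),
      Sieve.ofArrows Y g ∈ J U ∧ ∀ i, Y i ∈ B := fun U => by
    obtain ⟨ι, Y, g, hg, hY⟩ := h3 U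
    exact ⟨ι, Y, g, h U hg, hY⟩
  have hP : ∀ Y ∈ B, ∀ F : ModSite.Mod O, A F → ∀ k : ℕ, 0 < k →
      Subsingleton (ModSite.HU O F k Y) := h4
  refine ⟨inferInstance, flat_equiv (ε') adj A (A.map (ε').push) ?_ ?_
    (fun F' hF' => isIso_unit h O adj A B h3 h4 F' hF') B B hB
    (fun V _ => ⟨0, cofinalCover_of_forall J B hB hP V⟩) h3
    (fun V _ => ⟨0, cofinalCover_of_forall J' B h3 hP V⟩)⟩
  · rintro F' ⟨F, hF, ⟨e⟩⟩
    exact A.prop_of_iso ((pullPushIso h O F).symm ≪≫ (ε').pull.mapIso e) hF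
  · exact fun F hF => ⟨_, A.prop_map_obj _ hF, ⟨pullPushIso h O F⟩⟩

end

end Groth.Agent.EpsSerreLib
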